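import Mathlib
import Groth.Agent.LocClosed.Basic

/-!
# The localizing closure consists of the objects with a transfinite filtration
-/

universe w v u

open CategoryTheory CategoryTheory.Limits ZeroObject

set_option linter.style.haveILetI false
set_option linter.unusedSectionVars false
set_option backward.isDefEq.respectTransparency false

namespace Groth.Agent.LocFilt

variable {C : Type u} [Category.{v} C] [Abelian C] [IsGrothendieckAbelian.{w} C] (P : ObjectProperty C)

theorem subquot_iso {A A' : C} (e : A ≅ A') (h : GabLoc.subquotCoprod.{w} P A) : GabLoc.subquotCoprod.{w} P A' := by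
  obtain ⟨J, X, hX, B, i, p, hi, hp⟩ := h
  haveI := hp
  exact ⟨J, X, hX, B, i, p ≫ e.hom, hi, epi_comp _ _⟩

theorem subquot_zero {A : C} (hA : IsZero A) : GabLoc.subquotCoprod.{w} P A := by
  refine ⟨PEmpty.{w+1}, fun j => j.elim, fun j => j.elim, A, 0, 𝟙 A, ?_, inferInstance⟩
  exact ⟨fun u v _ => hA.eq_of_tgt u v⟩

theorem subquot_of_subquot {Y A B : C} (hY : GabLoc.subquotCoprod.{w} P Y) (i : A ⟶ Y) (p : A ⟶ B) [Mono i] [Epi p] :
    GabLoc.subquotCoprod.{w} P B := by
  obtain ⟨J, X, hX, Z, j, q, hj, hq⟩ := hY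
  haveI := hj; haveI := hq
  exact ⟨J, X, hX, pullback q i, pullback.fst q i ≫ j, pullback.snd q i ≫ p, inferInstance, inferInstance⟩

theorem subquot_of_prop {X : C} (hX : P X) : GabLoc.subquotCoprod.{w} P X := by
  refine ⟨PUnit.{w+1}, fun _ => X, fun _ => hX, X, Sigma.ι (fun _ : PUnit.{w+1} => X) PUnit.unit, 𝟙 X, ?_, inferInstance⟩
  exact SplitMono.mono ⟨Sigma.desc fun _ => 𝟙 X, by simp⟩

/-- every non zero subquotient has a non zero subobject in `subquotCoprod P` -/
def cls : ObjectProperty C :=
  fun Y => ∀ ⦃A B : C⦄ (i : A ⟶ Y) (p : A ⟶ B), Mono i → Epi p → ¬ IsZero B →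
    ∃ (T : C) (t : T ⟶ B), Mono t ∧ ¬ IsZero T ∧ GabLoc.subquotCoprod.{w} P T

instance : (cls.{w} P).IsClosedUnderSubobjects :=
  ⟨fun f _ h _ _ i p _ hp hB => h (i ≫ f) p inferInstance hp hB⟩

instance : (cls.{w} P).IsClosedUnderQuotients :=
  ⟨fun {X Y} f _ h A B i p hi hp hB => by
    haveI := hi; haveI := hp
    exact h (pullback.fst f i) (pullback.snd f i ≫ p) inferInstance inferInstance hB⟩

instance : (cls.{w} P).ContainsZero :=
  ⟨0, isZero_zero C, fun A B i p _ _ hB => absurd (IsZero.of_epi p (IsZero.of_mono i (isZero_zero C))) hB⟩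

instance : (cls.{w} P).IsClosedUnderExtensions :=
  ⟨fun {S} hS h₁ h₃ A B i p hi hp hB => by
    haveI := hi; haveI := hp
    have := hS.mono_f
    let k := kernel.ι (i ≫ S.g)
    let k₁ := hS.exact.lift (k ≫ i) (by rw [Category.assoc, kernel.condition])
    have : Mono k₁ := by
      have h : Mono (k₁ ≫ S.f) := by rw [ShortComplex.Exact.lift_f]; infer_instance
      exact mono_of_mono k₁ S.f
    by_cases hz : IsZero (Abelian.image (k ≫ p))
    · have hk : k ≫ p = 0 := by rw [← Abelian.image.fac (k ≫ p), hz.eq_of_tgt (Abelian.factorThruImage (k ≫ p)) 0, zero_comp]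
      let d : Abelian.coimage (i ≫ S.g) ⟶ B := cokernel.desc _ p hk
      have : Epi d := by
        have h : Epi (Abelian.coimage.π (i ≫ S.g) ≫ d) := by
          rw [show Abelian.coimage.π (i ≫ S.g) ≫ d = p from cokernel.π_desc _ _ _]; infer_instance
        exact epi_of_epi (Abelian.coimage.π (i ≫ S.g)) d
      exact h₃ (Abelian.factorThruCoimage (i ≫ S.g)) d inferInstance inferInstance hB
    · obtain ⟨T, t, ht, hT, hPT⟩ := h₁ k₁ (Abelian.factorThruImage (k ≫ p)) inferInstance inferInstance hz
      haveI := ht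
      exact ⟨T, t ≫ Abelian.image.ι (k ≫ p), mono_comp _ _, hT, hPT⟩⟩

instance : (cls.{w} P).IsSerreClass where

theorem cls_finite {α : Type w} (f : α → C) (hf : ∀ a, cls.{w} P (f a)) (s : Finset α) :
    cls.{w} P (∐ fun x : s => f x) := by
  classical
  induction s using Finset.induction_on with
  | empty =>
    refine (cls.{w} P).prop_of_isZero ?_
    rw [IsZero.iff_id_eq_zero]
    exact Sigma.hom_ext _ _ fun x => absurd x.2 (Finset.notMem_empty _)
  | @insert a s _ ih =>
    let g : f a ⊞ (∐ fun x : s => f x) ⟶ ∐ fun x : ↥(insert a s) => f x :=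
      biprod.desc (Sigma.ι (fun x : ↥(insert a s) => f x) ⟨a, Finset.mem_insert_self a s⟩)
        (Sigma.desc fun x => Sigma.ι (fun x : ↥(insert a s) => f x) ⟨x.1, Finset.mem_insert_of_mem x.2⟩)
    have : Epi g := ⟨fun {Z} u v h => Sigma.hom_ext _ _ fun ⟨x, hx⟩ => by
      rcases Finset.mem_insert.mp hx with rfl | hx'
      · simpa [g] using congr(biprod.inl ≫ $h)
      · simpa [g] using congr(Sigma.ι (fun x : s => f x) ⟨x, hx'⟩ ≫ biprod.inr ≫ $h)⟩
    refine (cls.{w} P).prop_of_epi g ?_
    exact (cls.{w} P).prop_X₂_of_shortExact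
      (S := ShortComplex.mk biprod.inl biprod.snd biprod.inl_snd)
      (ShortComplex.Splitting.ofHasBinaryBiproduct _ _).shortExact (hf a) ih

theorem cls_colim {J : Type w} [SmallCategory J] [IsFiltered J] (D : J ⥤ C) {c : Cocone D} (hc : IsColimit c)
    (hD : ∀ j, cls.{w} P (D.obj j)) : cls.{w} P c.pt := by
  intro A B i p hi hp hB
  obtain ⟨K, a, b, hpb, ⟨hK⟩⟩ := LocClosed.exists_cover D hc i
  have hb : ∀ j, Mono (b.app j) := fun j => (hpb j).mono_snd_of_mono
  obtain ⟨j, hj⟩ : ∃ j, a.app j ≫ p ≠ 0 := by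
    by_contra h
    push Not at h
    have hp0 : p = 0 := hK.hom_ext fun j => by rw [comp_zero]; exact h j
    apply hB
    rw [IsZero.iff_id_eq_zero, ← cancel_epi p, hp0, zero_comp, zero_comp]
  have hz : ¬ IsZero (Abelian.image (a.app j ≫ p)) := fun hz => hj (by
    rw [← Abelian.image.fac (a.app j ≫ p), hz.eq_of_tgt (Abelian.factorThruImage (a.app j ≫ p)) 0, zero_comp])
  obtain ⟨T, t, ht, hT, hPT⟩ := hD j (b.app j) (Abelian.factorThruImage (a.app j ≫ p)) (hb j) inferInstance hz
  haveI := ht
  exact ⟨T, t ≫ Abelian.image.ι (a.app j ≫ p), mono_comp _ _, hT, hPT⟩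

theorem isLocalizing_cls : GabLoc.IsLocalizing.{w} (cls.{w} P) := by
  refine ⟨inferInstance, fun α => ⟨?_⟩⟩
  rintro X ⟨⟨D, ι, hι⟩, hD⟩
  let c := CoproductsFromFiniteFiltered.liftToFinsetColimitCocone D
  have h : cls.{w} P c.cocone.pt :=
    cls_colim P (CoproductsFromFiniteFiltered.liftToFinsetObj D)
      (colimit.isColimit (CoproductsFromFiniteFiltered.liftToFinsetObj D)) fun s => cls_finite P (fun x => D.obj x) hD s
  exact (cls.{w} P).prop_of_iso (c.isColimit.coconePointUniqueUpToIso hι) h

theorem le_cls : P ≤ cls.{w} P := fun Y hY A B i p hi hp hB => by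
  haveI := hi; haveI := hp
  exact ⟨B, 𝟙 B, inferInstance, hB, subquot_of_subquot P (subquot_of_prop P hY) i p⟩

variable {P}

theorem mms_of_arrow_iso {A B A' B' : C} {f : A ⟶ B} {g : A' ⟶ B'} (e : Arrow.mk f ≅ Arrow.mk g)
    (h : GabLoc.monoModSubquot.{w} P f) : GabLoc.monoModSubquot.{w} P g := by
  refine ⟨((MorphismProperty.monomorphisms C).arrow_mk_iso_iff e).1 h.1, ?_⟩
  exact subquot_iso P (cokernel.mapIso f g (Arrow.leftFunc.mapIso e) (Arrow.rightFunc.mapIso e) e.hom.w.symm) h.2

/-- a step of the filtration -/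
theorem exists_larger {X : C} (hX : cls.{w} P X) (A : Subobject X) (hA : A ≠ ⊤) :
    ∃ (A' : Subobject X) (h : A < A'), GabLoc.monoModSubquot.{w} P (Subobject.ofLE A A' h.le) := by
  induction A using Subobject.ind with | _ f
  rename_i U _
  have hB : ¬ IsZero (cokernel f) := fun hz => by
    haveI : Epi f := Preadditive.epi_of_isZero_cokernel f hz
    haveI := isIso_of_mono_of_epi f
    exact hA (Subobject.mk_eq_top_of_isIso f)
  obtain ⟨T, t, ht, hT, hPT⟩ := hX (𝟙 X) (cokernel.π f) inferInstance inferInstance hB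
  haveI := ht
  let p' := pullback.fst (cokernel.π f) t
  let i : U ⟶ pullback (cokernel.π f) t := pullback.lift f 0 (by rw [cokernel.condition, zero_comp])
  have fac : i ≫ p' = f := pullback.lift_fst _ _ _
  haveI : Mono i := mono_of_mono_fac fac
  let S : ShortComplex C := ShortComplex.mk i (pullback.snd (cokernel.π f) t) (pullback.lift_snd _ _ _)
  have hex : S.Exact := by
    refine ShortComplex.exact_of_f_is_kernel _ (KernelFork.IsLimit.ofι' _ _ fun {W} k hk => ?_)
    have h0 : (k ≫ p') ≫ cokernel.π f = 0 := by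
      rw [Category.assoc, show p' ≫ cokernel.π f = pullback.snd _ _ ≫ t from pullback.condition,
        ← Category.assoc, hk, zero_comp]
    refine ⟨(Abelian.monoLift f (k ≫ p') h0), ?_⟩
    apply pullback.hom_ext
    · rw [Category.assoc, show i ≫ pullback.fst (cokernel.π f) t = f from fac, Abelian.monoLift_comp]
    · rw [Category.assoc, show i ≫ pullback.snd (cokernel.π f) t = 0 from pullback.lift_snd _ _ _, comp_zero, hk]
  haveI : Epi S.g := inferInstanceAs (Epi (pullback.snd (cokernel.π f) t))
  have hS : S.ShortExact := ⟨hex⟩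
  let e : cokernel i ≅ T := (cokernelIsCokernel i).coconePointUniqueUpToIso hS.gIsCokernel
  have hi : ¬ IsIso i := fun h => hT (IsZero.of_iso (isZero_cokernel_of_epi i) e.symm)
  refine ⟨Subobject.mk p', Subobject.mk_lt_mk_of_comm i fac hi, ?_⟩
  refine mms_of_arrow_iso (f := i) (Arrow.isoMk (Subobject.underlyingIso f).symm (Subobject.underlyingIso p').symm ?_)
    ⟨inferInstance, subquot_iso P e.symm hPT⟩
  dsimp
  rw [← cancel_mono (Subobject.mk p').arrow]
  simp [fac]

open scoped Classical in
/-- the step function -/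
noncomputable def larger {X : C} (hX : cls.{w} P X) (A : Subobject X) : Subobject X :=
  if hA : A = ⊤ then ⊤ else (exists_larger hX A hA).choose

variable {X : C} (hX : cls.{w} P X)

theorem larger_top : larger hX (⊤ : Subobject X) = ⊤ := dif_pos rfl

theorem lt_larger (A : Subobject X) (hA : A ≠ ⊤) : A < larger hX A := by
  dsimp only [larger]
  rw [dif_neg hA]
  exact (exists_larger hX A hA).choose_spec.choose

theorem le_larger (A : Subobject X) : A ≤ larger hX A := by
  by_cases hA : A = ⊤
  · subst hA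
    rw [larger_top]
  · exact (lt_larger hX A hA).le

theorem mms_larger (A : Subobject X) : GabLoc.monoModSubquot.{w} P (Subobject.ofLE _ _ (le_larger hX A)) := by
  by_cases hA : A = ⊤
  · subst hA
    haveI : IsIso (larger hX (⊤ : Subobject X)).arrow :=
      (Subobject.isIso_arrow_iff_eq_top _).2 (larger_top hX)
    haveI : IsIso (Subobject.ofLE _ _ (le_larger hX (⊤ : Subobject X)) ≫ (larger hX (⊤ : Subobject X)).arrow) := by
      rw [Subobject.ofLE_arrow]; infer_instance
    haveI : IsIso (Subobject.ofLE _ _ (le_larger hX (⊤ : Subobject X))) :=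
      IsIso.of_isIso_comp_right _ (larger hX (⊤ : Subobject X)).arrow
    exact ⟨inferInstance, subquot_zero P (isZero_cokernel_of_epi _)⟩
  · refine mms_of_arrow_iso ?_ (exists_larger hX A hA).choose_spec.choose_spec
    exact (Arrow.isoMk (Iso.refl _) (Subobject.isoOfEq _ _ (by simp [larger, dif_neg hA])) (by simp))

section

variable (A₀ : Subobject X) (J : Type w) [LinearOrder J] [OrderBot J] [SuccOrder J] [WellFoundedLT J]

/-- the filtration -/
@[simps]
noncomputable def functorToMonoOver : J ⥤ MonoOver X where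
  obj j := MonoOver.mk (transfiniteIterate (larger hX) j A₀).arrow
  map {j j'} f := MonoOver.homMk (Subobject.ofLE _ _
      (monotone_transfiniteIterate _ _ (le_larger hX) (leOfHom f)))

/-- the filtration, in `C` -/
noncomputable abbrev functor : J ⥤ C :=
  functorToMonoOver hX A₀ J ⋙ MonoOver.forget _ ⋙ Over.forget _

set_option backward.defeqAttrib.useBackward true in
instance : (functor hX A₀ J).IsWellOrderContinuous where
  nonempty_isColimit m hm := ⟨by
    have := hm.nonempty_Iio.to_subtype
    let c := (Set.principalSegIio m).cocone (functorToMonoOver hX A₀ J ⋙ MonoOver.forget _)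
    have : Mono c.pt.hom := by dsimp [c]; infer_instance
    apply IsGrothendieckAbelian.isColimitMapCoconeOfSubobjectMkEqISup
      ((Set.principalSegIio m).monotone.functor ⋙ functorToMonoOver hX A₀ J) c
    dsimp [c]
    simp only [Subobject.mk_arrow]
    exact transfiniteIterate_limit (larger hX) A₀ m hm⟩

set_option backward.isDefEq.respectTransparency.types false in
set_option backward.defeqAttrib.useBackward true in
variable {J} in
/-- the filtration is a transfinite composition -/
noncomputable def compositionFromBot (j : J) :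
    (GabLoc.monoModSubquot.{w} P).TransfiniteCompositionOfShape (Set.Iic j)
    ((functor hX A₀ J).map (homOfLE bot_le : ⊥ ⟶ j)) where
  F := (Set.initialSegIic j).monotone.functor ⋙ functor hX A₀ J
  isoBot := Iso.refl _
  incl :=
    { app k := (functor hX A₀ J).map (homOfLE k.2)
      naturality k k' h := by simp [MonoOver.forget] }
  isColimit := colimitOfDiagramTerminal isTerminalTop _
  map_mem k hk := by
    dsimp [MonoOver.forget]
    convert! mms_larger hX (transfiniteIterate (larger hX) k.1 A₀) using 2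
    all_goals
      rw [Set.Iic.succ_eq_of_not_isMax hk,
        transfiniteIterate_succ _ _ _ (Set.not_isMax_coe _ hk)]

end

include hX in
theorem mem_transfiniteCompositions :
    MorphismProperty.transfiniteCompositions.{w} (GabLoc.monoModSubquot.{w} P) (0 : (0 : C) ⟶ X) := by
  haveI : Mono (0 : (0 : C) ⟶ X) := ⟨fun u v _ => (isZero_zero C).eq_of_tgt u v⟩
  let κ := Order.succ (Cardinal.mk (Shrink.{w} (Subobject X)))
  have : Nonempty κ.ord.ToType := by simp [κ]
  letI : OrderBot κ.ord.ToType := WellFoundedLT.toOrderBot κ.ord.ToType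
  have hJ : HasCardinalLT (Subobject X) (Cardinal.mk κ.ord.ToType) := lt_of_lt_of_le (Order.lt_succ _) (by simp [κ])
  obtain ⟨j, hj⟩ := top_mem_range_transfiniteIterate (larger hX) (Subobject.mk (0 : (0 : C) ⟶ X))
    (lt_larger hX) (larger_top hX) (J := κ.ord.ToType)
    (fun h ↦ by simpa [hasCardinalLT_iff_cardinal_mk_lt] using hJ.of_injective _ h)
  let t := transfiniteIterate (larger hX) j (Subobject.mk (0 : (0 : C) ⟶ X))
  have := (Subobject.isIso_arrow_iff_eq_top t).2 hj
  refine (MorphismProperty.transfiniteCompositions_iff _ _).2 ⟨_, _, _, _, _, ⟨((compositionFromBot hX (Subobject.mk (0 : (0 : C) ⟶ X)) j).ofArrowIso ?_)⟩⟩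
  refine Arrow.isoMk ((Subobject.isoOfEq _ _ (transfiniteIterate_bot _ _) ≪≫
    Subobject.underlyingIso _)) (asIso t.arrow) ?_
  simp only [Arrow.mk_left, Arrow.mk_right]
  exact ((isZero_zero C).of_iso (Subobject.isoOfEq _ _ (transfiniteIterate_bot _ _) ≪≫
    Subobject.underlyingIso _)).eq_of_src _ _

section Converse

variable {Q : ObjectProperty C} (hQ : GabLoc.IsLocalizing.{w} Q)

include hQ

theorem prop_sigma {J : Type w} (X : J → C) (h : ∀ j, Q (X j)) : Q (∐ X) := by
  haveI := hQ.isClosedUnderCoproducts J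
  exact ObjectProperty.prop_colimit Q (Discrete.functor X) fun j => h j.as

theorem prop_subquot (hPQ : P ≤ Q) {A : C} (h : GabLoc.subquotCoprod.{w} P A) : Q A := by
  haveI := hQ.isSerreClass
  obtain ⟨J, X, hX, B, i, p, hi, hp⟩ := h
  exact Q.prop_of_epi p (Q.prop_of_mono i (prop_sigma hQ X fun j => hPQ _ (hX j)))

theorem prop_of_colimit {J : Type w} [SmallCategory J] (D : J ⥤ C) {c : Cocone D} (hc : IsColimit c)
    (h : ∀ j, Q (D.obj j)) : Q c.pt := by
  haveI := hQ.isSerreClass
  haveI : Epi (Sigma.desc fun j => c.ι.app j) := ⟨fun {Z} u v huv => hc.hom_ext fun j => by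
    simpa using congr(Sigma.ι D.obj j ≫ $huv)⟩
  exact Q.prop_of_epi (Sigma.desc fun j => c.ι.app j) (prop_sigma hQ D.obj h)

theorem prop_of_composition (hPQ : P ≤ Q)
    (h : MorphismProperty.transfiniteCompositions.{w} (GabLoc.monoModSubquot.{w} P) (0 : (0 : C) ⟶ X)) : Q X := by
  haveI := hQ.isSerreClass
  rw [MorphismProperty.transfiniteCompositions_iff] at h
  obtain ⟨J, _, _, _, _, ⟨c⟩⟩ := h
  suffices ∀ j, Q (c.F.obj j) from prop_of_colimit hQ c.F c.isColimit this
  intro j
  induction j using SuccOrder.limitRecOn with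
  | isMin j hj =>
    obtain rfl := hj.eq_bot
    exact Q.prop_of_iso c.isoBot.symm (Q.prop_of_isZero (isZero_zero C))
  | succ j hj ih =>
    obtain ⟨hm, hc⟩ := c.map_mem j hj
    haveI := hm
    exact Q.prop_X₂_of_shortExact (S := ShortComplex.mk (c.F.map (homOfLE (Order.le_succ j))) (cokernel.π _)
      (cokernel.condition _)) ⟨ShortComplex.exact_of_g_is_cokernel _ (cokernelIsCokernel _)⟩ ih (prop_subquot hQ hPQ hc)
  | isSuccLimit j hj ih =>
    exact prop_of_colimit hQ _ (c.F.isColimitOfIsWellOrderContinuous j hj) fun k => ih k.1 k.2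

end Converse

end Groth.Agent.LocFilt
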